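import Mathlib

/-!
Algebras generated by fewer elements than the cardinality of the ground field (Amitsur).
-/

set_option autoImplicit false

universe u

open Cardinal

namespace Groth.Agent.AmitsurJac

variable {K R : Type u} [Field K] [CommRing R] [Algebra K R]

theorem isAlgebraic_of_surjective (S : Set R) (hS : Algebra.adjoin K S = ⊤)
    (hinf : ℵ₀ < #K) (hcard : #S < #K) {L : Type u} [Field L] [Algebra K L] (g : R →ₐ[K] L)
    (hg : Function.Surjective g) : Algebra.IsAlgebraic K L := by
  refine ⟨fun t => ?_⟩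
  by_contra ht
  have h1 : #K ≤ Module.rank K L := by
    have h := (show Transcendental K t from ht).linearIndependent_sub_inv.cardinal_le_rank
    simpa using h
  have htop : Submodule.span K (Submonoid.closure (g '' S) : Set L) = ⊤ := by
    rw [← Algebra.adjoin_eq_span, ← AlgHom.map_adjoin, hS, Algebra.map_top, (AlgHom.range_eq_top g).mpr hg,
      Algebra.top_toSubmodule]
  have h2 : Module.rank K L ≤ #(Submonoid.closure (g '' S) : Set L) := by
    rw [← rank_top, ← htop]
    exact rank_span_le _
  have h3 : #(Submonoid.closure (g '' S) : Set L) ≤ max ℵ₀ #S := by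
    have h : #(Submonoid.closure (g '' S) : Set L) ≤ #(List S) := by
      refine Cardinal.mk_le_of_surjective
        (f := fun l : List S => ⟨(l.map fun s => g s.1).prod, Submonoid.list_prod_mem _ fun y hy => by
          obtain ⟨s, -, rfl⟩ := List.mem_map.mp hy
          exact Submonoid.subset_closure ⟨s.1, s.2, rfl⟩⟩) ?_
      rintro ⟨y, hy⟩
      obtain ⟨l, hl, rfl⟩ := Submonoid.exists_list_of_mem_closure hy
      refine Exists.imp (fun _ h => Subtype.ext h) (?_ : ∃ m : List S, (m.map fun s => g s.1).prod = l.prod)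
      induction l with
      | nil => exact ⟨[], rfl⟩
      | cons a l ih =>
        obtain ⟨m, hm⟩ := ih (fun y hy => hl y (List.mem_cons_of_mem _ hy))
          (Submonoid.list_prod_mem _ fun y hy => Submonoid.subset_closure (hl y (List.mem_cons_of_mem _ hy)))
        obtain ⟨s, hs, rfl⟩ := hl a List.mem_cons_self
        exact ⟨⟨s, hs⟩ :: m, by rw [List.map_cons, List.prod_cons, List.prod_cons, hm]⟩
    exact h.trans (Cardinal.mk_list_le_max _)
  exact (max_lt hinf hcard).not_ge ((h1.trans h2).trans h3)

theorem isJacobsonRing (S : Set R) (hS : Algebra.adjoin K S = ⊤)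
    (hinf : ℵ₀ < #K) (hcard : #S < #K) : IsJacobsonRing R := by
  refine isJacobsonRing_iff_prime_eq.mpr fun P hP => le_antisymm (fun f hf => ?_) Ideal.le_jacobson
  by_contra hfP
  let A := Localization.Away f
  have hdis : Disjoint (Submonoid.powers f : Set R) (P : Set R) := by
    rw [Set.disjoint_left]
    rintro _ ⟨n, rfl⟩ h
    exact hfP (hP.mem_of_pow_mem n h)
  have hne : P.map (algebraMap R A) ≠ ⊤ :=
    (IsLocalization.isPrime_of_isPrime_disjoint (Submonoid.powers f) A P hP hdis).ne_top
  obtain ⟨m, hm, hPm⟩ := Ideal.exists_le_maximal _ hne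
  let T : Set A := insert (IsLocalization.Away.invSelf f) (algebraMap R A '' S)
  have hT : Algebra.adjoin K T = ⊤ := by
    refine top_unique fun a _ => ?_
    obtain ⟨r, ⟨_, n, rfl⟩, rfl⟩ := IsLocalization.exists_mk'_eq (Submonoid.powers f) a
    have h1 : IsLocalization.mk' A r (⟨f ^ n, n, rfl⟩ : Submonoid.powers f) =
        algebraMap R A r * IsLocalization.Away.invSelf f ^ n := by
      rw [IsLocalization.mk'_eq_iff_eq_mul, mul_assoc, map_pow, ← mul_pow]
      rw [show IsLocalization.Away.invSelf (S := A) f * algebraMap R A f = 1 by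
        rw [mul_comm]; exact IsLocalization.Away.mul_invSelf f, one_pow, mul_one]
    rw [h1]
    refine mul_mem ?_ (pow_mem (Algebra.subset_adjoin (Set.mem_insert _ _)) n)
    have h2 : algebraMap R A r ∈ (Algebra.adjoin K S).map (IsScalarTower.toAlgHom K R A) :=
      ⟨r, by rw [hS]; trivial, rfl⟩
    rw [AlgHom.map_adjoin] at h2
    exact Algebra.adjoin_mono (Set.subset_insert _ _) h2
  have hTcard : #T < #K := (Cardinal.mk_insert_le).trans_lt
    (Cardinal.add_lt_of_lt hinf.le ((Cardinal.mk_image_le).trans_lt hcard) (Cardinal.one_lt_aleph0.trans hinf))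
  let := Ideal.Quotient.field m
  have halg : Algebra.IsAlgebraic K (A ⧸ m) :=
    isAlgebraic_of_surjective T hT hinf hTcard (Ideal.Quotient.mkₐ K m) Ideal.Quotient.mk_surjective
  let φ : R →ₐ[K] A ⧸ m := (Ideal.Quotient.mkₐ K m).comp (IsScalarTower.toAlgHom K R A)
  have hfield : IsField φ.range := Subalgebra.isField_of_algebraic _
  have hmax : (RingHom.ker φ).IsMaximal := by
    refine Ideal.Quotient.maximal_of_isField _ ?_
    exact MulEquiv.isField hfield (Ideal.quotientKerEquivRange φ).toMulEquiv
  have hle : P ≤ RingHom.ker φ := fun x hx =>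
    Ideal.Quotient.eq_zero_iff_mem.mpr (hPm (Ideal.mem_map_of_mem _ hx))
  have hfm : φ f = 0 := Ideal.mem_sInf.mp hf ⟨hle, hmax⟩
  exact hm.ne_top (Ideal.eq_top_of_isUnit_mem _ (Ideal.Quotient.eq_zero_iff_mem.mp hfm)
    (IsLocalization.Away.algebraMap_isUnit f))

end Groth.Agent.AmitsurJac
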